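import Groth.Agent.ResProp.EF.Grpd330.ApproxNF

/-!
# Absolute approximation of groupoid rings: `EF56.StmtApprox`
-/

set_option autoImplicit false
set_option linter.dupNamespace false

open CategoryTheory CategoryTheory.Limits Opposite

namespace ResProp.EF.Grpd330

open K784.BC K784.PM K741.RP EF56

universe u

section Con

variable {A : NFᵒᵖ ⥤ CommRingCat.{u}}

/-- the subrings generated by the edges -/
def gen (ΓB : Subring (A.obj (op ⟨1⟩))) : SubF A where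
  S a := Subring.closure (⋃ i, ⋃ j, rg A (edge (a := a) i j) '' ΓB)
  st {a b} φ x hx := by
    have : Subring.closure (⋃ i, ⋃ j, rg A (edge (a := b) i j) '' ΓB) ≤
        (Subring.closure (⋃ i, ⋃ j, rg A (edge (a := a) i j) '' ΓB)).comap (rg A φ) := by
      rw [Subring.closure_le]
      rintro _ ⟨_, ⟨i, rfl⟩, _, ⟨j, rfl⟩, g, hg, rfl⟩
      change rg A φ (rg A (edge i j) g) ∈ Subring.closure (⋃ i, ⋃ j, rg A (edge (a := a) i j) '' ΓB)
      rw [← rg_comp_apply, edge_comp]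
      refine Subring.subset_closure (Set.mem_iUnion.2 ⟨_, Set.mem_iUnion.2 ⟨_, g, hg, rfl⟩⟩)
    exact this hx

theorem mem_gen (ΓB : Subring (A.obj (op ⟨1⟩))) {a : NF} (i j : Fin (a.n + 1)) {g : A.obj (op ⟨1⟩)} (hg : g ∈ ΓB) :
    rg A (edge i j) g ∈ (gen ΓB).S a :=
  Subring.subset_closure (Set.mem_iUnion.2 ⟨i, Set.mem_iUnion.2 ⟨j, g, hg, rfl⟩⟩)

theorem gen_le (ΓB : Subring (A.obj (op ⟨1⟩))) {a : NF} (T : Subring (A.obj (op a)))
    (h : ∀ i j, ∀ g ∈ ΓB, rg A (edge i j) g ∈ T) : (gen ΓB).S a ≤ T := by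
  change Subring.closure _ ≤ T
  rw [Subring.closure_le]
  rintro _ ⟨_, ⟨i, rfl⟩, _, ⟨j, rfl⟩, g, hg, rfl⟩
  exact h i j g hg

/-- the degeneracy -/
def dg : (⟨0⟩ : NF) ⟶ ⟨1⟩ := edge (a := ⟨0⟩) 0 0

theorem pt_one_zero : pt ⟨1⟩ 0 = pr ⟨0⟩ := by
  funext k; have : k = 0 := Subsingleton.elim (α := Fin 1) _ _; subst this; rfl

theorem edge_diag {a : NF} (i : Fin (a.n + 1)) : edge i i = pt a i ≫ dg := by
  rw [dg, edge_comp]
  rfl

variable (B0 : Subring (A.obj (op ⟨0⟩))) (ΓB : Subring (A.obj (op ⟨1⟩)))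
  (hs : ∀ b ∈ B0, rg A (pr ⟨0⟩) b ∈ ΓB) (ht : ∀ b ∈ B0, rg A (lst ⟨0⟩) b ∈ ΓB)
  (he : ∀ g ∈ ΓB, rg A dg g ∈ B0) (hι : ∀ g ∈ ΓB, rg A swap g ∈ ΓB)
  (hm : ∀ g ∈ ΓB, rg A (edge (a := ⟨2⟩) 0 2) g ∈
    Subring.closure (rg A (pr ⟨1⟩) '' ΓB ∪ rg A (wmap (lst ⟨0⟩)) '' ΓB))

include hs he in
theorem gen_zero : (gen ΓB).S ⟨0⟩ = B0 := by
  apply le_antisymm
  · refine gen_le ΓB _ fun i j g hg => ?_
    have hi : i = 0 := Subsingleton.elim (α := Fin 1) _ _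
    have hj : j = 0 := Subsingleton.elim (α := Fin 1) _ _
    subst hi hj
    exact he g hg
  · intro b hb
    have h1 : dg ≫ pr ⟨0⟩ = 𝟙 (⟨0⟩ : NF) := by
      rw [dg, edge_pr]; funext k; exact Subsingleton.elim (α := Fin 1) _ _
    have h2 : b = rg A dg (rg A (pr ⟨0⟩) b) := by
      rw [← rg_comp_apply, h1, rg_id]; rfl
    rw [h2]
    exact mem_gen ΓB 0 0 (hs b hb)

include hs ht he hι in
theorem gen_one : (gen ΓB).S ⟨1⟩ = ΓB := by
  apply le_antisymm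
  · refine gen_le ΓB _ fun i j g hg => ?_
    by_cases hij : i = j
    · subst hij
      rw [edge_diag, rg_comp_apply]
      have h1 := he g hg
      revert i
      refine Fin.cases ?_ fun i => ?_
      · have h2 := hs _ h1
        rwa [← pt_one_zero] at h2
      · have : i = 0 := Subsingleton.elim (α := Fin 1) _ _
        subst this
        exact ht _ h1
    · by_cases hi : i = 0
      · have hj : j = 1 := by
          have h1 : (j : ℕ) < 2 := j.2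
          have h2 : (i : ℕ) = 0 := congrArg Fin.val hi
          have h3 : (i : ℕ) ≠ j := fun h => hij (Fin.ext h)
          exact Fin.ext (show (j : ℕ) = 1 by omega)
        subst hi hj
        rw [edge_id, rg_id]
        exact hg
      · have hi1 : i = 1 := by
          have h1 : (i : ℕ) < 2 := i.2
          have h2 : (i : ℕ) ≠ 0 := fun h => hi (Fin.ext h)
          exact Fin.ext (show (i : ℕ) = 1 by omega)
        have hj : j = 0 := by
          have h1 : (j : ℕ) < 2 := j.2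
          have h3 : (i : ℕ) ≠ j := fun h => hij (Fin.ext h)
          have h4 : (i : ℕ) = 1 := congrArg Fin.val hi1
          exact Fin.ext (show (j : ℕ) = 0 by omega)
        subst hi1 hj
        exact hι g hg
  · intro g hg
    have := mem_gen ΓB (a := ⟨1⟩) 0 1 hg
    rwa [edge_id, rg_id] at this

include ht he hι hm in
theorem gen_succ (a : NF) (i : Fin (a.n + 1)) :
    (gen ΓB).S ⟨a.n + 1⟩ ≤ Subring.closure (rg A (pr a) '' (gen ΓB).S a ∪ rg A (wmap (pt a i)) '' ΓB) := by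
  set T := Subring.closure (rg A (pr a) '' (gen ΓB).S a ∪ rg A (wmap (pt a i)) '' ΓB) with hT
  have hl : ∀ x ∈ (gen ΓB).S a, rg A (pr a) x ∈ T := fun x hx => Subring.subset_closure (Or.inl ⟨x, hx, rfl⟩)
  have hr : ∀ g ∈ ΓB, rg A (edge (a := ⟨a.n + 1⟩) i.castSucc (Fin.last (a.n + 1))) g ∈ T := fun g hg =>
    Subring.subset_closure (Or.inr ⟨g, hg, by rw [wmap_pt]⟩)
  have hcc : ∀ (j k : Fin (a.n + 1)), ∀ g ∈ ΓB, rg A (edge (a := ⟨a.n + 1⟩) j.castSucc k.castSucc) g ∈ T := by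
    intro j k g hg
    have h1 : edge (a := ⟨a.n + 1⟩) j.castSucc k.castSucc = pr a ≫ edge j k := by rw [edge_comp]; rfl
    rw [h1, rg_comp_apply]
    exact hl _ (mem_gen ΓB j k hg)
  have hcl : ∀ (j : Fin (a.n + 1)), ∀ g ∈ ΓB, rg A (edge (a := ⟨a.n + 1⟩) j.castSucc (Fin.last (a.n + 1))) g ∈ T := by
    intro j g hg
    have h1 : edge (a := ⟨a.n + 1⟩) j.castSucc (Fin.last (a.n + 1)) =
        tri (a := ⟨a.n + 1⟩) j.castSucc i.castSucc (Fin.last (a.n + 1)) ≫ edge (a := ⟨2⟩) 0 2 := by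
      rw [tri_edge]; rfl
    rw [h1, rg_comp_apply]
    have h2 : Subring.closure (rg A (pr ⟨1⟩) '' ΓB ∪ rg A (wmap (lst ⟨0⟩)) '' ΓB) ≤
        T.comap (rg A (tri (a := ⟨a.n + 1⟩) j.castSucc i.castSucc (Fin.last (a.n + 1)))) := by
      rw [Subring.closure_le]
      rintro _ (⟨g, hg, rfl⟩ | ⟨g, hg, rfl⟩)
      · change rg A _ (rg A _ g) ∈ T
        rw [← rg_comp_apply, pr_one, tri_edge]
        exact hcc j i g hg
      · change rg A _ (rg A _ g) ∈ T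
        rw [← rg_comp_apply, wmap_lst_zero, tri_edge]
        exact hr g hg
    exact h2 (hm g hg)
  refine gen_le ΓB T fun j k g hg => ?_
  refine Fin.lastCases ?_ (fun j => ?_) j
  · refine Fin.lastCases ?_ (fun k => ?_) k
    · have h1 : edge (a := ⟨a.n + 1⟩) (Fin.last (a.n + 1)) (Fin.last (a.n + 1)) =
          edge (a := ⟨a.n + 1⟩) i.castSucc (Fin.last (a.n + 1)) ≫ edge (a := ⟨1⟩) 1 1 := by
        rw [edge_comp]; rfl
      rw [h1, rg_comp_apply, edge_diag, rg_comp_apply]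
      exact hr _ (ht _ (he g hg))
    · have h1 : edge (a := ⟨a.n + 1⟩) (Fin.last (a.n + 1)) k.castSucc =
          edge (a := ⟨a.n + 1⟩) k.castSucc (Fin.last (a.n + 1)) ≫ swap := by
        rw [swap, edge_comp]; rfl
      rw [h1, rg_comp_apply]
      exact hcl k _ (hι g hg)
  · refine Fin.lastCases ?_ (fun k => ?_) k
    · exact hcl j g hg
    · exact hcc j k g hg

end Con

/-- `EF56.StmtApprox`: every smooth groupoid ring is affine over a smooth groupoid ring of finite type over `ℤ`. -/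
theorem stmtApprox : StmtApprox.{u} := by
  intro A hA hsm
  obtain ⟨A₀, Γ₀, h₀, hft, hsm₀, hpo₀⟩ := stmtSmoothDesc.{u} (rg A (pr ⟨0⟩)) hsm
  have hfl₀ : (((rg A (pr ⟨0⟩)).comp A₀.subtype).codRestrict Γ₀ h₀).Flat := RingHom.Smooth.flat hsm₀
  have hft₀ : (((rg A (pr ⟨0⟩)).comp A₀.subtype).codRestrict Γ₀ h₀).FiniteType :=
    RingHom.FiniteType.of_finitePresentation hsm₀.finitePresentation
  have hds : dg ≫ pr ⟨0⟩ = 𝟙 (⟨0⟩ : NF) := by
    rw [dg, edge_pr]; funext k; exact Subsingleton.elim (α := Fin 1) _ _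
  have hdt : dg ≫ lst ⟨0⟩ = 𝟙 (⟨0⟩ : NF) := by
    rw [dg, edge_lst]; funext k; exact Subsingleton.elim (α := Fin 1) _ _
  have hes : (rg A dg).comp (rg A (pr ⟨0⟩)) = RingHom.id _ := by rw [← rg_comp, hds, rg_id]
  have het : (rg A dg).comp (rg A (lst ⟨0⟩)) = RingHom.id _ := by rw [← rg_comp, hdt, rg_id]
  have hι : (rg A swap).comp (rg A (pr ⟨0⟩)) = rg A (lst ⟨0⟩) := by rw [← rg_comp, swap_pr]
  have hms : (rg A (edge (a := ⟨2⟩) 0 2)).comp (rg A (pr ⟨0⟩)) = (rg A (pr ⟨1⟩)).comp (rg A (pr ⟨0⟩)) := by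
    rw [← rg_comp, ← rg_comp, edge_pr, pr_one, edge_pr]
  have hmt : (rg A (edge (a := ⟨2⟩) 0 2)).comp (rg A (lst ⟨0⟩)) =
      (rg A (wmap (lst ⟨0⟩))).comp (rg A (lst ⟨0⟩)) := by
    rw [← rg_comp, ← rg_comp, edge_lst, wmap_lst_zero, edge_lst]
  obtain ⟨B0, hAB, hB0, ht, he, hi, hm⟩ := stmtCore.{u} (rg A (pr ⟨0⟩)) (rg A (lst ⟨0⟩)) (rg A dg) (rg A swap)
    (rg A (pr ⟨1⟩)) (rg A (wmap (lst ⟨0⟩))) (rg A (edge (a := ⟨2⟩) 0 2)) hes het hι (hA.po (lst ⟨0⟩)) hms hmt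
    A₀ Γ₀ h₀ hft hfl₀ hft₀ hpo₀
  set ΓB : Subring (A.obj (op ⟨1⟩)) := Subring.closure (rg A (pr ⟨0⟩) '' B0 ∪ Γ₀) with hΓB
  have hs : ∀ b ∈ B0, rg A (pr ⟨0⟩) b ∈ ΓB := fun b hb => Subring.subset_closure (Or.inl ⟨b, hb, rfl⟩)
  have hΓ : Γ₀ ≤ ΓB := fun g hg => Subring.subset_closure (Or.inr hg)
  -- the ring homomorphism `B0 → ΓB`
  let s' : B0 →+* ΓB := ((rg A (pr ⟨0⟩)).comp B0.subtype).codRestrict ΓB (fun b => hs b b.2)
  have hs'po : IsPO (Subring.inclusion hAB) (((rg A (pr ⟨0⟩)).comp A₀.subtype).codRestrict Γ₀ h₀) s'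
      (Subring.inclusion hΓ) := by
    have h1 : IsPO (RingHom.id (A.obj (op ⟨0⟩))) (rg A (pr ⟨0⟩)) (rg A (pr ⟨0⟩)) (RingHom.id (A.obj (op ⟨1⟩))) :=
      po_iso rfl Function.bijective_id Function.bijective_id
    exact NSubPO299.stmtSubPO.{u} _ _ _ _ h1 A₀ Γ₀ B0 h₀ (fun a => hAB a.2) ΓB (fun b => hs b b.2) (fun g => hΓ g.2)
      (by
        rw [hΓB, Subring.closure_le]
        rintro _ (⟨b, hb, rfl⟩ | hx)
        · exact Subring.subset_closure (Or.inl ⟨b, hb, rfl⟩)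
        · exact Subring.subset_closure (Or.inr ⟨_, hx, rfl⟩)) hfl₀ hpo₀
  have hs'sm : s'.Smooth := smooth_of_po hs'po hsm₀
  have hs'fl : s'.Flat := RingHom.Smooth.flat hs'sm
  have hBpo : IsPO B0.subtype s' (rg A (pr ⟨0⟩)) ΓB.subtype :=
    po_of_left (h₁₁ := Subring.inclusion hAB) (h₂₁ := Subring.inclusion hΓ) hpo₀ rfl hs'po
  let X := gen ΓB
  have e0 : X.S ⟨0⟩ = B0 := gen_zero B0 ΓB hs he
  have e1 : X.S ⟨1⟩ = ΓB := gen_one B0 ΓB hs ht he hi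
  -- transport
  have key : ∀ (S0 : Subring (A.obj (op ⟨0⟩))) (S1 : Subring (A.obj (op ⟨1⟩))) (_ : S0 = B0) (_ : S1 = ΓB)
      (h : ∀ b : S0, rg A (pr ⟨0⟩) b ∈ S1),
      (((rg A (pr ⟨0⟩)).comp S0.subtype).codRestrict S1 h).Smooth ∧
      IsPO S0.subtype (((rg A (pr ⟨0⟩)).comp S0.subtype).codRestrict S1 h) (rg A (pr ⟨0⟩)) S1.subtype ∧
      (Int.castRingHom S0).FiniteType := by
    intro S0 S1 h1 h2
    subst h1
    subst h2
    exact fun _ => ⟨hs'sm, hBpo, hB0⟩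
  obtain ⟨k1, k2, k3⟩ := key (X.S ⟨0⟩) (X.S ⟨1⟩) e0 e1 (fun b => X.st (pr ⟨0⟩) b b.2)
  have pos : ∀ a : NF, ∀ i : Fin (a.n + 1),
      IsPO (X.r (pt a i)) (X.r (pr ⟨0⟩)) (X.r (pr a)) (X.r (wmap (pt a i))) := by
    intro a i
    exact NSubPO299.stmtSubPO.{u} _ _ _ _ (hA.po (pt a i)) (X.S ⟨0⟩) (X.S ⟨1⟩) (X.S a) (fun b => X.st (pr ⟨0⟩) b b.2)
      (fun b => X.st (pt a i) b b.2) (X.S ⟨a.n + 1⟩) (fun b => X.st (pr a) b b.2)
      (fun b => X.st (wmap (pt a i)) b b.2)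
      (by rw [e1]; exact gen_succ B0 ΓB ht he hi hm a i) (RingHom.Smooth.flat k1) k2
  have c0 : X.C (pr ⟨0⟩) := k2.flip
  have hff0 : (X.r (pr ⟨0⟩)).FaithfullyFlat := by
    refine ff_of_retraction _ (X.r dg) ?_ (RingHom.Smooth.flat k1)
    rw [← X.r_comp, hds]
    ext x
    exact congr($(rg_id A ⟨0⟩) x)
  refine ⟨X.F, X.j, ?_, fun {a b} φ => X.C_all hA pos c0 φ⟩
  exact { ff := fun a => (IsPO.flip (pos a 0)).ff hff0
          po := fun {a b} φ => X.po pos φ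
          smooth := k1
          ft := k3 }

end ResProp.EF.Grpd330
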