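import Groth.Agent.ResProp.EF.Grpd330.Core

/-!
# Absolute approximation of affine groupoids: the subring of finite type
-/

set_option autoImplicit false
universe u v w

open TensorProduct

namespace ResProp.EF.Grpd330

section Fin

variable {A₀ : Type u} {A : Type v} [CommRing A₀] [CommRing A] [Algebra A₀ A]

theorem exists_fg_of_hom {X : Type w} [CommRing X] (S : Subalgebra A₀ A → Subring X)
    (hmono : ∀ D D', D ≤ D' → S D ≤ S D') (hS : ∀ x : X, ∃ D : Subalgebra A₀ A, D.FG ∧ x ∈ S D)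
    {R₀ : Type*} [CommRing R₀] [Algebra.FiniteType ℤ R₀] (g : R₀ →+* X) :
    ∃ D : Subalgebra A₀ A, D.FG ∧ ∀ r, g r ∈ S D := by
  obtain ⟨s, hs⟩ := ‹Algebra.FiniteType ℤ R₀›.out
  have key : ∀ s : Finset R₀, ∃ D : Subalgebra A₀ A, D.FG ∧ ∀ r ∈ s, g r ∈ S D := by
    classical
    intro s
    induction s using Finset.induction_on with
    | empty => exact ⟨⊥, Subalgebra.fg_bot, by simp⟩
    | insert a s _ ih =>
      obtain ⟨D, hD, h⟩ := ih
      obtain ⟨D', hD', h'⟩ := hS (g a)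
      refine ⟨D ⊔ D', hD.sup hD', fun r hr => ?_⟩
      rcases Finset.mem_insert.1 hr with rfl | hr
      · exact hmono _ _ le_sup_right h'
      · exact hmono _ _ le_sup_left (h r hr)
  obtain ⟨D, hD, h⟩ := key s
  refine ⟨D, hD, fun r => ?_⟩
  have hr : r ∈ Algebra.adjoin ℤ (s : Set R₀) := by rw [hs]; trivial
  induction hr using Algebra.adjoin_induction with
  | mem x hx => exact h x hx
  | algebraMap n => rw [eq_intCast, map_intCast]; exact intCast_mem _ n
  | add x y _ _ hx hy => rw [map_add]; exact add_mem hx hy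
  | mul x y _ _ hx hy => rw [map_mul]; exact mul_mem hx hy

end Fin

section Setup

variable {A B : Type u} [CommRing A] [CommRing B] [Algebra A B]
variable {A₀ : Subalgebra ℤ A} {B₀ : Type u} [CommRing B₀] [Algebra A₀ B₀]
variable (φ : B ≃ₐ[A] A ⊗[A₀] B₀)

theorem mem_Gs_iff (D : Subalgebra A₀ A) (x : B) :
    x ∈ Gs φ D ↔ x ∈ G φ (Subalgebra.toSubmodule D) := by
  rw [← toSubmodule_Gs, Subalgebra.mem_toSubmodule]

theorem algebraMap_mem_Gs {D : Subalgebra A₀ A} {a : A} (ha : a ∈ D) : algebraMap A B a ∈ Gs φ D :=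
  (le_sup_left : _ ≤ Gs φ D) ⟨a, ha, rfl⟩

theorem bt_mem_Gs (D : Subalgebra A₀ A) (b : B₀) : bt φ b ∈ Gs φ D :=
  (le_sup_right : _ ≤ Gs φ D) ⟨b, rfl⟩

theorem G_induction {F : Submodule A₀ A} {p : B → Prop}
    (hadd : ∀ x y, p x → p y → p (x + y)) (hm : ∀ a ∈ F, ∀ b, p (algebraMap A B a * bt φ b))
    {x : B} (hx : x ∈ G φ F) : p x := by
  refine Submodule.mul_induction_on hx ?_ hadd
  rintro _ ⟨a, ha, rfl⟩ _ ⟨b, rfl⟩
  exact hm a ha b

theorem exists_fg_mem_Gs (x : B) : ∃ D : Subalgebra A₀ A, D.FG ∧ x ∈ Gs φ D := by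
  refine G_induction φ (p := fun x => ∃ D : Subalgebra A₀ A, D.FG ∧ x ∈ Gs φ D) ?_ ?_
    (mem_G_top φ x)
  · rintro x y ⟨D, hD, hx⟩ ⟨D', hD', hy⟩
    exact ⟨D ⊔ D', hD.sup hD', add_mem (Gs_mono φ le_sup_left hx) (Gs_mono φ le_sup_right hy)⟩
  · intro a _ b
    refine ⟨Algebra.adjoin A₀ {a}, ⟨{a}, by simp⟩, mul_mem (algebraMap_mem_Gs φ ?_) (bt_mem_Gs φ _ b)⟩
    exact Algebra.subset_adjoin rfl

theorem exists_fg_mem_G {D : Subalgebra A₀ A} (s : Set B) (hs : s.Finite) :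
    ∃ F : Submodule D A, F.FG ∧ ∀ x ∈ s, x ∈ G φ (F.restrictScalars A₀) := by
  induction s, hs using Set.Finite.induction_on with
  | empty => exact ⟨⊥, Submodule.fg_bot, by simp⟩
  | @insert x s _ _ ih =>
    obtain ⟨F, hF, h⟩ := ih
    have h1 : ∃ F : Submodule D A, F.FG ∧ x ∈ G φ (F.restrictScalars A₀) := by
      refine G_induction φ (p := fun x => ∃ F : Submodule D A, F.FG ∧ x ∈ G φ (F.restrictScalars A₀))
        ?_ ?_ (mem_G_top φ x)
      · rintro x y ⟨F, hF, hx⟩ ⟨F', hF', hy⟩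
        exact ⟨F ⊔ F', hF.sup hF',
          add_mem (G_mono φ (Submodule.restrictScalars_mono (S := A₀) le_sup_left) hx)
            (G_mono φ (Submodule.restrictScalars_mono (S := A₀) le_sup_right) hy)⟩
      · intro a _ b
        exact ⟨Submodule.span D {a}, Submodule.fg_span_singleton a,
          mul_mem_G φ (F := (Submodule.span D {a}).restrictScalars A₀)
            (Submodule.mem_span_singleton_self a) b⟩
    obtain ⟨F', hF', hx⟩ := h1
    refine ⟨F ⊔ F', hF.sup hF', fun y hy => ?_⟩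
    rcases hy with rfl | hy
    · exact G_mono φ (Submodule.restrictScalars_mono (S := A₀) le_sup_right) hx
    · exact G_mono φ (Submodule.restrictScalars_mono (S := A₀) le_sup_left) (h y hy)

theorem Gs_mul_G {D : Subalgebra A₀ A} (F : Submodule D A) {x y : B} (hx : x ∈ Gs φ D)
    (hy : y ∈ G φ (F.restrictScalars A₀)) : x * y ∈ G φ (F.restrictScalars A₀) := by
  rw [mem_Gs_iff] at hx
  have h1 := Submodule.mul_mem_mul hx hy
  rw [G_mul] at h1
  refine G_mono φ ?_ h1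
  rw [Submodule.mul_le]
  intro a ha b hb
  exact F.smul_mem ⟨a, ha⟩ hb

end Setup

end ResProp.EF.Grpd330
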