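import Groth.Agent.ResProp.EF.Grpd330.CoreThm
import Mathlib.RingTheory.RingHom.Smooth

/-!
# `EF56.StmtSmoothDesc`: a smooth ring map is the base change of a smooth map of subrings of finite type
-/

set_option autoImplicit false
universe u v w

open TensorProduct K784.BC CategoryTheory

namespace ResProp.EF.Grpd330

theorem po_of_equiv {A₀ A Γ₀ Γ : Type u} [CommRing A₀] [CommRing A] [CommRing Γ₀] [CommRing Γ]
    [Algebra A₀ A] [Algebra A₀ Γ₀] [Algebra A Γ] (β : Γ₀ →+* Γ)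
    (φ : Γ ≃ₐ[A] A ⊗[A₀] Γ₀) (hφ : ∀ g, φ (β g) = 1 ⊗ₜ g) :
    IsPO (algebraMap A₀ A) (algebraMap A₀ Γ₀) (algebraMap A Γ) β := by
  let : Algebra Γ₀ Γ := β.toAlgebra
  let : Algebra A₀ Γ := ((algebraMap A Γ).comp (algebraMap A₀ A)).toAlgebra
  have i1 : IsScalarTower A₀ A Γ := IsScalarTower.of_algebraMap_eq fun _ => rfl
  have i2 : IsScalarTower A₀ Γ₀ Γ := by
    refine IsScalarTower.of_algebraMap_eq fun x => φ.injective ?_
    change φ (algebraMap A Γ (algebraMap A₀ A x)) = φ (β (algebraMap A₀ Γ₀ x))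
    rw [hφ, φ.commutes, Algebra.TensorProduct.algebraMap_apply, Algebra.algebraMap_self, RingHom.id_apply,
      Algebra.algebraMap_eq_smul_one, Algebra.algebraMap_eq_smul_one, TensorProduct.smul_tmul]
  have i3 : Algebra.IsPushout A₀ A Γ₀ Γ := by
    constructor
    refine IsBaseChange.of_equiv (φ.symm.toLinearEquiv) fun x => ?_
    change φ.symm (1 ⊗ₜ x) = β x
    rw [← hφ, φ.symm_apply_apply]
  exact CommRingCat.isPushout_iff_isPushout.mpr i3

/-- `EF56.StmtSmoothDesc`. -/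
theorem smoothDesc {A Γ : Type u} [CommRing A] [CommRing Γ] (s : A →+* Γ) (hs : s.Smooth) :
    ∃ (A₀ : Subring A) (Γ₀ : Subring Γ) (h : ∀ a : A₀, s a ∈ Γ₀),
      (Int.castRingHom A₀).FiniteType ∧ ((s.comp A₀.subtype).codRestrict Γ₀ h).Smooth ∧
        IsPO A₀.subtype ((s.comp A₀.subtype).codRestrict Γ₀ h) s Γ₀.subtype := by
  let : Algebra A Γ := s.toAlgebra
  have : Algebra.Smooth A Γ := hs
  obtain ⟨A₀, B₀, _, _, hA₀, hsm, ⟨φ⟩⟩ := Algebra.Smooth.exists_subalgebra_fg ℤ A Γ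
  have hinj : Function.Injective (bt φ) := by
    have h1 : Function.Injective
        (Algebra.TensorProduct.includeRight : B₀ →ₐ[A₀] A ⊗[A₀] B₀) :=
      Algebra.TensorProduct.includeRight_injective (FaithfulSMul.algebraMap_injective A₀ A)
    intro x y hxy
    apply h1
    have := congrArg φ hxy
    rwa [φ_bt, φ_bt] at this
  let Γ₀ : Subring Γ := (bt φ : B₀ →+* Γ).range
  let ε : B₀ ≃+* Γ₀ := RingEquiv.ofBijective (bt φ : B₀ →+* Γ).rangeRestrict
    ⟨fun x y hxy => hinj (congrArg Subtype.val hxy), (bt φ : B₀ →+* Γ).rangeRestrict_surjective⟩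
  have hε : ∀ b, (ε b : Γ) = bt φ b := fun b => rfl
  have h : ∀ a : A₀.toSubring, s a ∈ Γ₀ := fun a => ⟨algebraMap A₀ B₀ a, by
    change bt φ (algebraMap A₀ B₀ a) = s a
    rw [AlgHom.commutes]; rfl⟩
  refine ⟨A₀.toSubring, Γ₀, h, ?_, ?_, ?_⟩
  · have h1 : Algebra.FiniteType ℤ A₀ := (Subalgebra.fg_iff_finiteType A₀).1 hA₀
    exact ft_int.2 h1
  · have h2 : (algebraMap A₀ B₀).Smooth := RingHom.smooth_algebraMap.2 hsm
    have h3 : (s.comp A₀.toSubring.subtype).codRestrict Γ₀ h = (ε : B₀ →+* Γ₀).comp (algebraMap A₀ B₀) := by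
      ext a
      change s a = (ε (algebraMap A₀ B₀ a) : Γ)
      rw [hε, AlgHom.commutes]
      rfl
    rw [h3]
    exact (RingHom.Smooth.respectsIso).1 _ ε h2
  · let : Algebra A₀ Γ₀ := ((ε : B₀ →+* Γ₀).comp (algebraMap A₀ B₀)).toAlgebra
    let ε' : B₀ ≃ₐ[A₀] Γ₀ := { ε with commutes' := fun _ => rfl }
    have h4 := po_of_equiv (A₀ := A₀) (A := A) (Γ₀ := Γ₀) (Γ := Γ) Γ₀.subtype
      (φ.trans (Algebra.TensorProduct.congr (AlgEquiv.refl : A ≃ₐ[A] A) ε')) (fun g => by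
        obtain ⟨b, rfl⟩ := ε'.surjective g
        change Algebra.TensorProduct.congr (AlgEquiv.refl : A ≃ₐ[A] A) ε' (φ (bt φ b)) = _
        rw [φ_bt]
        simp)
    have h3 : (s.comp A₀.toSubring.subtype).codRestrict Γ₀ h = algebraMap A₀ Γ₀ := by
      ext a
      change s a = (ε (algebraMap A₀ B₀ a) : Γ)
      rw [hε, AlgHom.commutes]
      rfl
    rw [h3]
    exact h4

end ResProp.EF.Grpd330
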