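import Groth.Agent.ResProp.EF.Grpd330.SubF
import Groth.Agent.ResProp.EF.Base
import Groth.Agent.ResProp.EF.X56.NSubPO_299
import Groth.Agent.ResProp.EF.X56.Ncore_330

/-!
# Absolute approximation of groupoid rings: `StmtApprox`
-/

set_option autoImplicit false
set_option linter.dupNamespace false

open CategoryTheory CategoryTheory.Limits Opposite

namespace ResProp.EF.Grpd330

open K784.BC K784.PM K741.RP EF56

universe u

section Paste

variable {R₁ R₂ R₃ S₁ S₂ S₃ : Type u} [CommRing R₁] [CommRing R₂] [CommRing R₃] [CommRing S₁] [CommRing S₂] [CommRing S₃]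

/-- cancel the left square -/
theorem po_of_left {h₁₁ : R₁ →+* R₂} {h₁₂ : R₂ →+* R₃} {v₁ : R₁ →+* S₁} {v₂ : R₂ →+* S₂} {v₃ : R₃ →+* S₃}
    {h₂₁ : S₁ →+* S₂} {h₂₂ : S₂ →+* S₃} (s : IsPO (h₁₂.comp h₁₁) v₁ v₃ (h₂₂.comp h₂₁))
    (p : v₃.comp h₁₂ = h₂₂.comp v₂) (t : IsPO h₁₁ v₁ v₂ h₂₁) : IsPO h₁₂ v₂ v₃ h₂₂ := by
  refine IsPushout.of_left (h₁₁ := CommRingCat.ofHom h₁₁) (h₂₁ := CommRingCat.ofHom h₂₁)
    (v₁₁ := CommRingCat.ofHom v₁) ?_ ?_ t
  · rw [← CommRingCat.ofHom_comp, ← CommRingCat.ofHom_comp]; exact s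
  · rw [← CommRingCat.ofHom_comp, ← CommRingCat.ofHom_comp, p]

theorem po_paste {h₁₁ : R₁ →+* R₂} {h₁₂ : R₂ →+* R₃} {v₁ : R₁ →+* S₁} {v₂ : R₂ →+* S₂} {v₃ : R₃ →+* S₃}
    {h₂₁ : S₁ →+* S₂} {h₂₂ : S₂ →+* S₃} (t : IsPO h₁₁ v₁ v₂ h₂₁) (s : IsPO h₁₂ v₂ v₃ h₂₂) :
    IsPO (h₁₂.comp h₁₁) v₁ v₃ (h₂₂.comp h₂₁) := by
  have := IsPushout.paste_horiz t s
  rw [← CommRingCat.ofHom_comp, ← CommRingCat.ofHom_comp] at this
  exact this

theorem po_iso {f : R₁ →+* R₂} {g : R₁ →+* S₁} {f' : S₁ →+* S₂} {g' : R₂ →+* S₂}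
    (h : g'.comp f = f'.comp g) (hf : Function.Bijective f) (hf' : Function.Bijective f') : IsPO f g g' f' := by
  have i1 : IsIso (CommRingCat.ofHom f) := (RingEquiv.ofBijective f hf).toCommRingCatIso.isIso_hom
  have i2 : IsIso (CommRingCat.ofHom f') := (RingEquiv.ofBijective f' hf').toCommRingCatIso.isIso_hom
  refine IsPushout.of_horiz_isIso ⟨?_⟩
  rw [← CommRingCat.ofHom_comp, ← CommRingCat.ofHom_comp, h]

end Paste

theorem ff_of_retraction {R S : Type u} [CommRing R] [CommRing S] (f : R →+* S) (g : S →+* R)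
    (h : g.comp f = RingHom.id R) (hf : f.Flat) : f.FaithfullyFlat := by
  rw [RingHom.FaithfullyFlat.iff_flat_and_comap_surjective]
  refine ⟨hf, fun p => ⟨PrimeSpectrum.comap g p, ?_⟩⟩
  rw [← PrimeSpectrum.comap_comp_apply, h, PrimeSpectrum.comap_id]

theorem smooth_of_po {R R' A B : Type u} [CommRing R] [CommRing R'] [CommRing A] [CommRing B] {ρ : R →+* R'}
    {α : R →+* A} {β : R' →+* B} {φ : A →+* B} (h : IsPO ρ α β φ) (hα : α.Smooth) : β.Smooth := by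
  have h2 := RingHom.isStableUnderCobaseChange_toMorphismProperty_iff.2 RingHom.Smooth.isStableUnderBaseChange
  exact h2.1 h hα


section Gen

variable {A : NFᵒᵖ ⥤ CommRingCat.{u}} (X : SubF A)

/-- the square of the inclusion along an arrow -/
def SubF.C {a b : NF} (φ : a ⟶ b) : Prop := IsPO (X.r φ) (X.S b).subtype (X.S a).subtype (rg A φ)

theorem SubF.r_comp {a b c : NF} (φ : a ⟶ b) (ψ : b ⟶ c) : X.r (φ ≫ ψ) = (X.r φ).comp (X.r ψ) := by
  ext x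
  change rg A (φ ≫ ψ) x = rg A φ (rg A ψ x)
  rw [rg_comp_apply]

theorem SubF.sub_r {a b : NF} (φ : a ⟶ b) : (X.S a).subtype.comp (X.r φ) = (rg A φ).comp (X.S b).subtype := rfl

theorem SubF.C.comp {a b c : NF} {φ : a ⟶ b} {ψ : b ⟶ c} (h : X.C φ) (h' : X.C ψ) : X.C (φ ≫ ψ) := by
  rw [SubF.C, X.r_comp, rg_comp]
  exact po_paste h' h

theorem SubF.C.of_comp {a b c : NF} {φ : a ⟶ b} {ψ : b ⟶ c} (h : X.C (φ ≫ ψ)) (h' : X.C ψ) : X.C φ := by
  rw [SubF.C, X.r_comp, rg_comp] at h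
  exact po_of_left h (X.sub_r φ) h'

theorem SubF.C_of_iso {a b : NF} (φ : a ⟶ b) [IsIso φ] : X.C φ := by
  refine po_iso (X.sub_r φ) ?_ ?_
  · refine Function.bijective_iff_has_inverse.2 ⟨X.r (inv φ), fun x => ?_, fun x => ?_⟩
    · have := congr($(X.r_comp (inv φ) φ) x)
      rw [IsIso.inv_hom_id] at this
      rw [← RingHom.comp_apply, ← X.r_comp, IsIso.inv_hom_id]
      exact Subtype.ext (congr($(rg_id A b) x))
    · rw [← RingHom.comp_apply, ← X.r_comp, IsIso.hom_inv_id]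
      exact Subtype.ext (congr($(rg_id A a) x))
  · refine Function.bijective_iff_has_inverse.2 ⟨rg A (inv φ), fun x => ?_, fun x => ?_⟩
    · rw [← rg_comp_apply, IsIso.inv_hom_id, rg_id]; rfl
    · rw [← rg_comp_apply, IsIso.hom_inv_id, rg_id]; rfl

/-- the swap -/
def swap : (⟨1⟩ : NF) ⟶ ⟨1⟩ := edge (a := ⟨1⟩) 1 0

theorem swap_swap : swap ≫ swap = 𝟙 (⟨1⟩ : NF) := by
  rw [swap, edge_comp]
  exact edge_id

instance : IsIso swap := ⟨swap, swap_swap, swap_swap⟩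

theorem swap_pr : swap ≫ pr ⟨0⟩ = lst ⟨0⟩ := by
  rw [swap, edge_pr]
  rfl

variable (hA : GR A)
  (pos : ∀ a : NF, ∀ i : Fin (a.n + 1), IsPO (X.r (pt a i)) (X.r (pr ⟨0⟩)) (X.r (pr a)) (X.r (wmap (pt a i))))
  (c0 : X.C (pr ⟨0⟩))

include pos in
theorem SubF.po {a b : NF} (φ : a ⟶ b) : IsPO (X.r φ) (X.r (pr b)) (X.r (pr a)) (X.r (wmap φ)) := by
  have hw : wmap (pt a ((show Fin (b.n + 1) → Fin (a.n + 1) from φ) 0)) = wmap φ ≫ wmap (pt b 0) := by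
    refine nf_ext ?_ ?_
    · rw [wmap_pr, Category.assoc, wmap_pr, ← Category.assoc, wmap_pr, Category.assoc]
      rfl
    · rw [wmap_lst, Category.assoc, wmap_lst, wmap_lst]
  have h1 := pos a ((show Fin (b.n + 1) → Fin (a.n + 1) from φ) 0)
  have h2 : pt a ((show Fin (b.n + 1) → Fin (a.n + 1) from φ) 0) = φ ≫ pt b 0 := rfl
  rw [hw, h2, X.r_comp, X.r_comp] at h1
  refine po_of_left h1 ?_ (pos b 0)
  rw [← X.r_comp, ← X.r_comp, wmap_pr]

include hA pos c0 in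
theorem SubF.C_pr (a : NF) : X.C (pr a) := by
  have h1 : IsPO (X.r (pr ⟨0⟩)) (X.S ⟨0⟩).subtype (X.S ⟨1⟩).subtype (rg A (pr ⟨0⟩)) := c0
  have h2 := po_paste h1.flip (hA.po (pt a 0))
  have h3 : (rg A (pt a 0)).comp (X.S ⟨0⟩).subtype = (X.S a).subtype.comp (X.r (pt a 0)) := rfl
  have h4 : (rg A (wmap (pt a 0))).comp (X.S ⟨1⟩).subtype =
    (X.S ⟨a.n + 1⟩).subtype.comp (X.r (wmap (pt a 0))) := rfl
  rw [h3, h4] at h2
  exact (po_of_left h2 rfl (pos a 0)).flip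

include hA pos in
theorem SubF.C_wmap {a b : NF} (φ : a ⟶ b) (h : X.C φ) : X.C (wmap φ) := by
  have h1 : IsPO (X.r φ) (X.S b).subtype (X.S a).subtype (rg A φ) := h
  have h2 := po_paste h1.flip (hA.po φ).flip
  have h3 : (rg A (pr b)).comp (X.S b).subtype = (X.S ⟨b.n + 1⟩).subtype.comp (X.r (pr b)) := rfl
  have h4 : (rg A (pr a)).comp (X.S a).subtype = (X.S ⟨a.n + 1⟩).subtype.comp (X.r (pr a)) := rfl
  rw [h3, h4] at h2
  exact (po_of_left h2 rfl (X.po pos φ).flip).flip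

include hA pos c0 in
theorem SubF.C_pt (n : ℕ) : ∀ i : Fin (n + 1), X.C (pt ⟨n⟩ i) := by
  induction n with
  | zero =>
    intro i
    have : pt ⟨0⟩ i = 𝟙 (⟨0⟩ : NF) := by
      funext k
      exact Subsingleton.elim (α := Fin 1) _ _
    rw [this]
    exact X.C_of_iso _
  | succ n ih =>
    intro i
    have hl : X.C (lst ⟨0⟩) := by
      rw [← swap_pr]
      exact SubF.C.comp X (X.C_of_iso swap) c0
    refine Fin.lastCases ?_ (fun j => ?_) i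
    · have h1 : pt ⟨n + 1⟩ (Fin.last (n + 1)) = wmap (pt ⟨n⟩ 0) ≫ lst ⟨0⟩ := by
        rw [wmap_lst]; rfl
      rw [h1]
      exact SubF.C.comp X (X.C_wmap hA pos _ (ih 0)) hl
    · have h1 : pt ⟨n + 1⟩ j.castSucc = pr ⟨n⟩ ≫ pt ⟨n⟩ j := rfl
      rw [h1]
      exact SubF.C.comp X (X.C_pr hA pos c0 _) (ih j)

include hA pos c0 in
theorem SubF.C_all {a b : NF} (φ : a ⟶ b) : X.C φ :=
  SubF.C.of_comp X (ψ := pt b 0)
    (X.C_pt hA pos c0 a.n ((show Fin (b.n + 1) → Fin (a.n + 1) from φ) 0)) (X.C_pt hA pos c0 b.n 0)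

end Gen

end ResProp.EF.Grpd330
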