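import Mathlib.RingTheory.Smooth.NoetherianDescent
import Mathlib.RingTheory.Smooth.Flat
import Mathlib.RingTheory.Flat.Basic
import Mathlib.RingTheory.Flat.Stability
import Mathlib.RingTheory.RingHom.Smooth
import Mathlib.RingTheory.Noetherian.Basic
import Mathlib.RingTheory.FiniteType
import Mathlib.RingTheory.Adjoin.Tower
import Mathlib.RingTheory.TensorProduct.Maps
import Mathlib.Algebra.Algebra.Subalgebra.Pointwise

/-!
# Absolute approximation of affine groupoids: the ring core
-/

set_option autoImplicit false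
universe u v w

open TensorProduct

namespace ResProp.EF.Grpd330

/-- `T` as an algebra over `A` through `x : A →+* T`. -/
def Al {A : Type u} {T : Type v} [CommRing A] [CommRing T] (_x : A →+* T) : Type v := T

section Al

variable {A : Type u} {T : Type v} [CommRing A] [CommRing T] (x : A →+* T)

instance : CommRing (Al x) := inferInstanceAs (CommRing T)

instance : Algebra A (Al x) := x.toAlgebra

/-- The identity `T → Al x`. -/
def toAl : T ≃+* Al x := RingEquiv.refl T

theorem toAl_map (a : A) : toAl x (x a) = algebraMap A (Al x) a := rfl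

theorem toAl_symm_algebraMap (a : A) : (toAl x).symm (algebraMap A (Al x) a) = x a := rfl

end Al

section Setup

variable {A B : Type u} [CommRing A] [CommRing B] [Algebra A B]
variable {A₀ : Subalgebra ℤ A} {B₀ : Type u} [CommRing B₀] [Algebra A₀ B₀]
variable (φ : B ≃ₐ[A] A ⊗[A₀] B₀)

/-- The structure map `B₀ → B`. -/
noncomputable def bt : B₀ →ₐ[A₀] B :=
  ((φ.symm.toAlgHom.restrictScalars A₀).comp
    (Algebra.TensorProduct.includeRight : B₀ →ₐ[A₀] A ⊗[A₀] B₀))

theorem φ_bt (b : B₀) : φ (bt φ b) = 1 ⊗ₜ b :=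
  φ.apply_symm_apply (1 ⊗ₜ[A₀] b)

theorem φ_symm_tmul (a : A) (b : B₀) : φ.symm (a ⊗ₜ b) = algebraMap A B a * bt φ b := by
  apply φ.injective
  rw [AlgEquiv.apply_symm_apply, map_mul, φ_bt, AlgEquiv.commutes, Algebra.TensorProduct.algebraMap_apply,
    Algebra.TensorProduct.tmul_mul_tmul, mul_one, one_mul]
  rfl

/-- The `A₀`-submodule `F ⊗ B₀` of `B`. -/
noncomputable def G (F : Submodule A₀ A) : Submodule A₀ B :=
  F.map (IsScalarTower.toAlgHom A₀ A B).toLinearMap * (Subalgebra.toSubmodule (bt φ).range)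

/-- The `A₀`-subalgebra `D ⊗ B₀` of `B`. -/
noncomputable def Gs (D : Subalgebra A₀ A) : Subalgebra A₀ B :=
  D.map (IsScalarTower.toAlgHom A₀ A B) ⊔ (bt φ).range

theorem toSubmodule_Gs (D : Subalgebra A₀ A) :
    Subalgebra.toSubmodule (Gs φ D) = G φ (Subalgebra.toSubmodule D) := by
  rw [Gs, G, ← Subalgebra.mul_toSubmodule]
  rfl

theorem G_mono {F F' : Submodule A₀ A} (h : F ≤ F') : G φ F ≤ G φ F' :=
  mul_le_mul' (Submodule.map_mono h) le_rfl

theorem Gs_mono {D D' : Subalgebra A₀ A} (h : D ≤ D') : Gs φ D ≤ Gs φ D' :=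
  sup_le_sup (Subalgebra.map_mono h) le_rfl

theorem G_mul (F F' : Submodule A₀ A) : G φ F * G φ F' = G φ (F * F') := by
  have h : (Subalgebra.toSubmodule (bt φ).range) * (Subalgebra.toSubmodule (bt φ).range) =
      Subalgebra.toSubmodule (bt φ).range := by
    rw [Subalgebra.mul_toSubmodule, sup_idem]
  rw [G, G, G, mul_mul_mul_comm, h, Submodule.map_mul]

theorem mul_mem_G {F : Submodule A₀ A} {a : A} (ha : a ∈ F) (b : B₀) :
    algebraMap A B a * bt φ b ∈ G φ F :=
  Submodule.mul_mem_mul ⟨a, ha, rfl⟩ ⟨b, rfl⟩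

/-- The key use of flatness. -/
theorem mem_G_of_flat [Module.Flat A₀ B₀] {Q : Type v} [AddCommGroup Q] [Module A₀ Q] (τ : A →ₗ[A₀] Q)
    (x : B) (hx : τ.rTensor B₀ (φ x) = 0) : x ∈ G φ (LinearMap.ker τ) := by
  have hex : Function.Exact (LinearMap.ker τ).subtype τ := by
    rw [LinearMap.exact_iff, Submodule.range_subtype]
  have h2 := Module.Flat.rTensor_exact B₀ hex
  obtain ⟨z, hz⟩ := (h2 _).1 hx
  have : x = φ.symm ((LinearMap.ker τ).subtype.rTensor B₀ z) := by
    rw [hz, AlgEquiv.symm_apply_apply]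
  rw [this]
  clear hz this
  induction z with
  | zero => rw [map_zero, map_zero]; exact Submodule.zero_mem _
  | add y z hy hz => rw [map_add, map_add]; exact Submodule.add_mem _ hy hz
  | tmul a b =>
    rw [LinearMap.rTensor_tmul, φ_symm_tmul]
    exact mul_mem_G φ a.2 b

theorem mem_G_top (x : B) : x ∈ G φ ⊤ := by
  have : x = φ.symm (φ x) := (φ.symm_apply_apply x).symm
  rw [this]
  generalize φ x = y
  induction y with
  | zero => rw [map_zero]; exact Submodule.zero_mem _
  | add y z hy hz => rw [map_add]; exact Submodule.add_mem _ hy hz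
  | tmul a b => rw [φ_symm_tmul]; exact mul_mem_G φ Submodule.mem_top b

end Setup

end ResProp.EF.Grpd330
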