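import Groth.Agent.ResProp.EF.Grpd330.Wrap

/-!
# Absolute approximation of affine groupoids: `StmtCore` and `StmtSmoothDesc` of `X56/Iface.lean`
-/

set_option autoImplicit false
universe u v w

open TensorProduct K784.BC CategoryTheory

namespace ResProp.EF.Grpd330

theorem exists_phi {A₀ A Γ₀ Γ : Type u} [CommRing A₀] [CommRing A] [CommRing Γ₀] [CommRing Γ]
    [Algebra A₀ A] [Algebra A₀ Γ₀] [Algebra A Γ] (β : Γ₀ →+* Γ)
    (h : IsPO (algebraMap A₀ A) (algebraMap A₀ Γ₀) (algebraMap A Γ) β) :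
    ∃ φ : Γ ≃ₐ[A] A ⊗[A₀] Γ₀, ∀ g, φ (β g) = 1 ⊗ₜ g := by
  let : Algebra Γ₀ Γ := β.toAlgebra
  let : Algebra A₀ Γ := ((algebraMap A Γ).comp (algebraMap A₀ A)).toAlgebra
  have i1 : IsScalarTower A₀ A Γ := IsScalarTower.of_algebraMap_eq fun _ => rfl
  have i2 : IsScalarTower A₀ Γ₀ Γ := IsScalarTower.of_algebraMap_eq fun x => congr($(h.comm) x)
  have i3 : Algebra.IsPushout A₀ A Γ₀ Γ := CommRingCat.isPushout_iff_isPushout.mp h
  refine ⟨(Algebra.IsPushout.equiv A₀ A Γ₀ Γ).symm, fun g => ?_⟩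
  exact Algebra.IsPushout.equiv_symm_algebraMap_right A₀ A Γ₀ Γ g

theorem ft_int {A : Type*} [CommRing A] : (Int.castRingHom A).FiniteType ↔ Algebra.FiniteType ℤ A := by
  rw [show Int.castRingHom A = algebraMap ℤ A from RingHom.ext_int _ _]
  exact RingHom.finiteType_algebraMap

/-- `EF56.StmtCore`. -/
theorem core {A Γ Γ₂ : Type u} [CommRing A] [CommRing Γ] [CommRing Γ₂] (s t : A →+* Γ) (e : Γ →+* A)
    (ι : Γ →+* Γ) (p q m : Γ →+* Γ₂) (hes : e.comp s = RingHom.id A) (het : e.comp t = RingHom.id A)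
    (hι : ι.comp s = t) (hpo : IsPO t s p q) (hms : m.comp s = p.comp s) (hmt : m.comp t = q.comp t)
    (A₀ : Subring A) (Γ₀ : Subring Γ) (h : ∀ a : A₀, s a ∈ Γ₀)
    (hA₀ : (Int.castRingHom A₀).FiniteType) (hfl : ((s.comp A₀.subtype).codRestrict Γ₀ h).Flat)
    (hft : ((s.comp A₀.subtype).codRestrict Γ₀ h).FiniteType)
    (hpo₀ : IsPO A₀.subtype ((s.comp A₀.subtype).codRestrict Γ₀ h) s Γ₀.subtype) :
    ∃ B : Subring A, A₀ ≤ B ∧ (Int.castRingHom B).FiniteType ∧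
        (∀ b ∈ B, t b ∈ Subring.closure (s '' B ∪ Γ₀)) ∧
        (∀ g ∈ Subring.closure (s '' B ∪ Γ₀), e g ∈ B) ∧
        (∀ g ∈ Subring.closure (s '' B ∪ Γ₀), ι g ∈ Subring.closure (s '' B ∪ Γ₀)) ∧
        (∀ g ∈ Subring.closure (s '' B ∪ Γ₀), m g ∈
          Subring.closure (p '' (Subring.closure (s '' B ∪ Γ₀) : Subring Γ) ∪
            q '' (Subring.closure (s '' B ∪ Γ₀) : Subring Γ))) := by
  let : Algebra A Γ := s.toAlgebra
  let A₀' : Subalgebra ℤ A := subalgebraOfSubring A₀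
  let : Algebra A₀' Γ₀ := (show A₀' →+* Γ₀ from (s.comp A₀.subtype).codRestrict Γ₀ h).toAlgebra
  have : Algebra.FiniteType A₀' Γ₀ := hft
  have : Module.Flat A₀' Γ₀ := hfl
  have h1 : Algebra.FiniteType ℤ A₀' := by
    exact ft_int.1 hA₀
  have hFG : A₀'.FG := (Subalgebra.fg_iff_finiteType A₀').2 h1
  -- the isomorphism
  obtain ⟨φ, hφ⟩ : ∃ φ : Γ ≃ₐ[A] A ⊗[A₀'] Γ₀, ∀ g : Γ₀, φ (Γ₀.subtype g) = 1 ⊗ₜ g :=
    exists_phi Γ₀.subtype hpo₀
  have hbt : ∀ g : Γ₀, bt φ g = g := fun g => φ.injective (by rw [φ_bt]; exact (hφ g).symm)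
  obtain ⟨D, hD, h2, h3, h4, h5⟩ := core_aux t e ι p q m (fun a => congr($hes a)) (fun a => congr($het a))
    (fun a => congr($hι a)) hpo (fun a => congr($hms a)) (fun a => congr($hmt a)) A₀' Γ₀ hFG φ
  have hcl : Subring.closure (s '' (D.toSubring : Set A) ∪ Γ₀) = (Gs φ D).toSubring := by
    apply le_antisymm
    · rw [Subring.closure_le]
      rintro x (⟨a, ha, rfl⟩ | hx)
      · exact algebraMap_mem_Gs φ ha
      · have := bt_mem_Gs φ D ⟨x, hx⟩
        rwa [hbt] at this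
    · intro x hx
      have hx' : x ∈ G φ (Subalgebra.toSubmodule D) := (mem_Gs_iff φ D x).1 hx
      refine G_induction φ (p := fun x => x ∈ Subring.closure (s '' (D.toSubring : Set A) ∪ Γ₀))
        (fun x y hx hy => add_mem hx hy) (fun a ha b => ?_) hx'
      refine mul_mem (Subring.subset_closure (Or.inl ⟨a, ha, rfl⟩)) (Subring.subset_closure (Or.inr ?_))
      rw [hbt]
      exact b.2
  refine ⟨D.toSubring, fun a ha => ?_, ?_, ?_⟩
  · exact D.algebraMap_mem (⟨a, ha⟩ : A₀')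
  · have : Algebra.FiniteType A₀' D := (Subalgebra.fg_iff_finiteType D).1 hD
    have h6 : Algebra.FiniteType ℤ D := Algebra.FiniteType.trans (S := A₀') inferInstance inferInstance
    exact ft_int.2 h6
  · rw [hcl]
    exact ⟨h2, h3, h4, h5⟩

end ResProp.EF.Grpd330
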