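import Groth.Agent.ResProp.EF.Grpd330.Step

/-!
# Absolute approximation of affine groupoids: the theorem on subrings
-/

set_option autoImplicit false
universe u v w

open TensorProduct

namespace ResProp.EF.Grpd330

section Main

variable {A B : Type u} [CommRing A] [CommRing B] [Algebra A B]
variable {A₀ : Subalgebra ℤ A} {B₀ : Type u} [CommRing B₀] [Algebra A₀ B₀]
variable (φ : B ≃ₐ[A] A ⊗[A₀] B₀) (t : A →+* B) (e : B →+* A) (i : B →+* B)
  (δ : B →+* (Al t) ⊗[A₀] B₀)

/-- The first choice of a subalgebra of finite type. -/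
theorem exists_D₁ [Algebra.FiniteType ℤ A₀] [Algebra.FiniteType A₀ B₀] :
    ∃ D : Subalgebra A₀ A, D.FG ∧ (∀ a : A₀, t a ∈ Gs φ D) ∧ (∀ b, e (bt φ b) ∈ D) ∧
      (∀ b, i (bt φ b) ∈ Gs φ D) ∧ (∀ b, δ (bt φ b) ∈ W φ t (Subalgebra.toSubmodule D)) := by
  have : Algebra.FiniteType ℤ B₀ := Algebra.FiniteType.trans (S := A₀) inferInstance inferInstance
  have hG : ∀ x : B, ∃ D : Subalgebra A₀ A, D.FG ∧ x ∈ (Gs φ D).toSubring := exists_fg_mem_Gs φ
  have hGm : ∀ D D' : Subalgebra A₀ A, D ≤ D' → (Gs φ D).toSubring ≤ (Gs φ D').toSubring :=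
    fun D D' h => Gs_mono φ h
  obtain ⟨D₁, f₁, h₁⟩ := exists_fg_of_hom (fun D => (Gs φ D).toSubring) hGm hG
    (t.comp (A₀.val : A₀ →+* A))
  obtain ⟨D₂, f₂, h₂⟩ := exists_fg_of_hom (A₀ := A₀) (A := A) (fun D => D.toSubring) (fun D D' h => h)
    (fun x => ⟨Algebra.adjoin A₀ {x}, ⟨{x}, by simp⟩, Algebra.subset_adjoin rfl⟩)
    (e.comp (bt φ : B₀ →+* B))
  obtain ⟨D₃, f₃, h₃⟩ := exists_fg_of_hom (fun D => (Gs φ D).toSubring) hGm hG
    (i.comp (bt φ : B₀ →+* B))
  obtain ⟨D₄, f₄, h₄⟩ := exists_fg_of_hom (fun D => Wr φ t D)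
    (fun D D' h => W_mono φ t (Subalgebra.toSubmodule.monotone h)) (exists_fg_mem_Wr φ t)
    (δ.comp (bt φ : B₀ →+* B))
  refine ⟨D₁ ⊔ D₂ ⊔ D₃ ⊔ D₄, ((f₁.sup f₂).sup f₃).sup f₄, fun a => ?_, fun b => ?_, fun b => ?_, fun b => ?_⟩
  · exact Gs_mono φ ((le_sup_left.trans le_sup_left).trans le_sup_left) (h₁ a)
  · exact ((le_sup_right.trans le_sup_left).trans le_sup_left : D₂ ≤ D₁ ⊔ D₂ ⊔ D₃ ⊔ D₄) (h₂ b)
  · exact Gs_mono φ (le_sup_right.trans le_sup_left) (h₃ b)
  · exact W_mono φ t (Subalgebra.toSubmodule.monotone le_sup_right) (h₄ b)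

variable (es : ∀ a, e (algebraMap A B a) = a) (et : ∀ a, e (t a) = a)
  (δs : ∀ a, δ (algebraMap A B a) = q₁ t (algebraMap A B a)) (δt : ∀ a, δ (t a) = q₂ φ t (t a))

include es et δs δt in
theorem exists_stable (hA₀ : A₀.FG) [Algebra.FiniteType A₀ B₀] [Module.Flat A₀ B₀] :
    ∃ D : Subalgebra A₀ A, D.FG ∧ (∀ a ∈ D, t a ∈ Gs φ D) ∧ (∀ b, e (bt φ b) ∈ D) ∧
      (∀ b, i (bt φ b) ∈ Gs φ D) ∧ (∀ b, δ (bt φ b) ∈ W φ t (Subalgebra.toSubmodule D)) := by
  have : Algebra.FiniteType ℤ A₀ := (Subalgebra.fg_iff_finiteType A₀).mp hA₀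
  obtain ⟨D, hD, hDt, hDe, hDi, hDδ⟩ := exists_D₁ φ t e i δ
  obtain ⟨c, hc⟩ := hD
  obtain ⟨F, hF, hFc⟩ := exists_fg_mem_G φ (D := D) (t '' (insert 1 (c : Set A)))
    (((c.finite_toSet).insert 1).image t)
  have hFt : ∀ a : A₀, ∀ x ∈ G φ (F.restrictScalars A₀), t a * x ∈ G φ (F.restrictScalars A₀) :=
    fun a x hx => Gs_mul_G φ F (hDt a) hx
  have hδ : ∀ x ∈ G φ (F.restrictScalars A₀), δ x ∈ W φ t (F.restrictScalars A₀) := by
    intro x hx
    refine G_induction φ (p := fun x => δ x ∈ W φ t (F.restrictScalars A₀)) ?_ ?_ hx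
    · intro x y hx hy
      rw [map_add]; exact add_mem hx hy
    · intro a ha b
      rw [map_mul, δs, q₁_apply]
      refine mul_mem_W φ t (F := F.restrictScalars A₀) (F' := Subalgebra.toSubmodule D) ?_ ?_ (hDδ b)
      · rw [Submodule.mul_le]
        intro x hx y hy
        rw [mul_comm]
        exact F.smul_mem ⟨y, hy⟩ hx
      · refine tmul_mem_W φ t ?_ 1
        have := mul_mem_G φ ha 1
        rwa [map_one, mul_one] at this
  set F' := LinearMap.ker (tau φ t (F.restrictScalars A₀) hFt) with hF'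
  have hmem : ∀ a, a ∈ F' ↔ t a ∈ G φ (F.restrictScalars A₀) := mem_ker_tau φ t _ hFt
  have hstab : ∀ a ∈ F', t a ∈ G φ F' := fun a ha => t_mem_G φ t δ δt _ hFt hδ a ((hmem a).1 ha)
  have heF : ∀ x ∈ G φ (F.restrictScalars A₀), e x ∈ F := by
    intro x hx
    refine G_induction φ (p := fun x => e x ∈ F) ?_ ?_ hx
    · intro x y hx hy
      rw [map_add]; exact add_mem hx hy
    · intro a ha b
      rw [map_mul, es, mul_comm]
      exact F.smul_mem ⟨_, hDe b⟩ ha
  have hF'F : ∀ a ∈ F', a ∈ F := fun a ha => by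
    have := heF _ ((hmem a).1 ha)
    rwa [et] at this
  have hcF' : ∀ a ∈ c, a ∈ F' := fun a ha =>
    (hmem a).2 (hFc _ ⟨a, Set.mem_insert_of_mem _ ha, rfl⟩)
  set D' := Algebra.adjoin A₀ (F' : Set A) with hD'
  have hFD' : ∀ a ∈ F', a ∈ D' := fun a ha => Algebra.subset_adjoin ha
  have hDD' : D ≤ D' := by
    rw [← hc, Algebra.adjoin_le_iff]
    exact fun a ha => hFD' a (hcF' a ha)
  have hFG : D'.FG := by
    have : Algebra.FiniteType A₀ D := (Subalgebra.fg_iff_finiteType D).mp ⟨c, hc⟩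
    have : Algebra.FiniteType ℤ D := Algebra.FiniteType.trans (S := A₀) inferInstance inferInstance
    have : IsNoetherianRing D := Algebra.FiniteType.isNoetherianRing ℤ D
    have : Module.Finite D F := Module.Finite.iff_fg.2 hF
    have hN : (Submodule.span D (F' : Set A)).FG := by
      have h1 : IsNoetherian D F := isNoetherian_of_isNoetherianRing_of_finite D F
      exact (isNoetherian_submodule.1 h1) _ (Submodule.span_le.2 fun a ha => hF'F a ha)
    obtain ⟨n, hn⟩ := hN
    classical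
    refine ⟨c ∪ n, le_antisymm ?_ ?_⟩
    · rw [Algebra.adjoin_le_iff]
      intro a ha
      rw [Finset.coe_union] at ha
      rcases ha with ha | ha
      · exact hFD' a (hcF' a ha)
      · have ha' : a ∈ Submodule.span D (F' : Set A) := by rw [← hn]; exact Submodule.subset_span ha
        clear ha
        induction ha' using Submodule.span_induction with
        | mem x hx => exact hFD' x hx
        | zero => exact zero_mem _
        | add x y _ _ hx hy => exact add_mem hx hy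
        | smul r x _ hx => exact mul_mem (hDD' r.2) hx
    · rw [hD', Algebra.adjoin_le_iff]
      intro a ha
      have hDle : D ≤ Algebra.adjoin A₀ ((c ∪ n : Finset A) : Set A) := by
        rw [← hc]; exact Algebra.adjoin_mono (by simp)
      have ha' : a ∈ Submodule.span D (n : Set A) := by rw [hn]; exact Submodule.subset_span ha
      clear ha
      induction ha' using Submodule.span_induction with
      | mem x hx => exact Algebra.subset_adjoin (by simp [Finset.mem_coe.1 hx])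
      | zero => exact zero_mem _
      | add x y _ _ hx hy => exact add_mem hx hy
      | smul r x _ hx => exact mul_mem (hDle r.2) hx
  refine ⟨D', hFG, fun a ha => ?_, fun b => hDD' (hDe b), fun b => Gs_mono φ hDD' (hDi b),
    fun b => W_mono φ t (Subalgebra.toSubmodule.monotone hDD') (hDδ b)⟩
  induction ha using Algebra.adjoin_induction with
  | mem x hx =>
    rw [mem_Gs_iff]
    exact G_mono φ (fun a ha => hFD' a ha) (hstab x hx)
  | algebraMap r => exact Gs_mono φ hDD' (hDt r)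
  | add x y _ _ hx hy => rw [map_add]; exact add_mem hx hy
  | mul x y _ _ hx hy => rw [map_mul]; exact mul_mem hx hy

end Main

end ResProp.EF.Grpd330
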