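import Groth.Agent.ResProp.EF.Grpd330.Approx

/-!
# Absolute approximation of affine groupoids: the stable submodule
-/

set_option autoImplicit false
universe u v w

open TensorProduct

namespace ResProp.EF.Grpd330

section Setup

variable {A B : Type u} [CommRing A] [CommRing B] [Algebra A B]
variable {A₀ : Subalgebra ℤ A} {B₀ : Type u} [CommRing B₀] [Algebra A₀ B₀]
variable (φ : B ≃ₐ[A] A ⊗[A₀] B₀) (t : A →+* B)

/-- `b ↦ b ⊗ 1`. -/
noncomputable def q₁ : B →+* (Al t) ⊗[A₀] B₀ :=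
  (Algebra.TensorProduct.includeLeft : Al t →ₐ[A₀] (Al t) ⊗[A₀] B₀).toRingHom.comp (toAl t : B →+* Al t)

/-- `a ⊗ b₀ ↦ t a ⊗ b₀`. -/
noncomputable def q₂ : B →+* (Al t) ⊗[A₀] B₀ :=
  (Algebra.TensorProduct.map (IsScalarTower.toAlgHom A₀ A (Al t)) (AlgHom.id A₀ B₀)).toRingHom.comp
    (φ : B →+* A ⊗[A₀] B₀)

omit [Algebra A B] in
theorem q₁_apply (b : B) : q₁ (A₀ := A₀) (B₀ := B₀) t b = (toAl t b) ⊗ₜ 1 := rfl

theorem q₂_mul_bt (a : A) (b : B₀) :
    q₂ φ t (algebraMap A B a * bt φ b) = (toAl t (t a)) ⊗ₜ b := by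
  have : φ (algebraMap A B a * bt φ b) = a ⊗ₜ b := by
    rw [← φ_symm_tmul, AlgEquiv.apply_symm_apply]
  change (Algebra.TensorProduct.map (IsScalarTower.toAlgHom A₀ A (Al t)) (AlgHom.id A₀ B₀))
    (φ (algebraMap A B a * bt φ b)) = _
  rw [this]
  rfl

theorem q₂_s (a : A) : q₂ φ t (algebraMap A B a) = q₁ t (t a) := by
  have := q₂_mul_bt φ t a 1
  rw [map_one, mul_one] at this
  exact this

/-- The span of `x ⊗ b`, `x ∈ G F`. -/
noncomputable def W (F : Submodule A₀ A) : AddSubgroup ((Al t) ⊗[A₀] B₀) :=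
  AddSubgroup.closure {z | ∃ x ∈ G φ F, ∃ b : B₀, z = (toAl t x) ⊗ₜ b}

theorem W_mono {F F' : Submodule A₀ A} (h : F ≤ F') : W φ t F ≤ W φ t F' :=
  AddSubgroup.closure_mono fun _ ⟨x, hx, b, hz⟩ => ⟨x, G_mono φ h hx, b, hz⟩

theorem tmul_mem_W {F : Submodule A₀ A} {x : B} (hx : x ∈ G φ F) (b : B₀) :
    (toAl t x) ⊗ₜ b ∈ W φ t F := AddSubgroup.subset_closure ⟨x, hx, b, rfl⟩

theorem mem_W_top (z : (Al t) ⊗[A₀] B₀) : z ∈ W φ t ⊤ := by
  induction z with
  | zero => exact zero_mem _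
  | add x y hx hy => exact add_mem hx hy
  | tmul x b => exact tmul_mem_W φ t (x := (toAl t).symm x) (mem_G_top φ _) b

theorem mul_mem_W {F F' F'' : Submodule A₀ A} (hF : F * F' ≤ F'') {z z' : (Al t) ⊗[A₀] B₀}
    (hz : z ∈ W φ t F) (hz' : z' ∈ W φ t F') : z * z' ∈ W φ t F'' := by
  induction hz using AddSubgroup.closure_induction with
  | mem z hz =>
    obtain ⟨x, hx, b, rfl⟩ := hz
    induction hz' using AddSubgroup.closure_induction with
    | mem z' hz' =>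
      obtain ⟨x', hx', b', rfl⟩ := hz'
      rw [Algebra.TensorProduct.tmul_mul_tmul, ← map_mul]
      refine tmul_mem_W φ t (G_mono φ hF ?_) _
      rw [← G_mul]
      exact Submodule.mul_mem_mul hx hx'
    | zero => rw [mul_zero]; exact zero_mem _
    | add x y _ _ hx hy => rw [mul_add]; exact add_mem hx hy
    | neg x _ hx =>
      have h := neg_mem hx
      rwa [show -((toAl t _ ⊗ₜ[A₀] b) * x) = (toAl t _ ⊗ₜ[A₀] b) * -x from (mul_neg _ x).symm] at h
  | zero => rw [zero_mul]; exact zero_mem _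
  | add x y _ _ hx hy => rw [add_mul]; exact add_mem hx hy
  | neg x _ hx =>
    have h := neg_mem hx
    rwa [show -(x * z') = -x * z' from (neg_mul x z').symm] at h

/-- `W` of a subalgebra as a subring. -/
noncomputable def Wr (D : Subalgebra A₀ A) : Subring ((Al t) ⊗[A₀] B₀) where
  __ := W φ t (Subalgebra.toSubmodule D)
  mul_mem' := fun {a b} ha hb => mul_mem_W φ t (Submodule.mul_le.2 fun _ hx _ hy => D.mul_mem hx hy) ha hb
  one_mem' := tmul_mem_W φ t (x := 1) (by rw [← mem_Gs_iff]; exact one_mem _) 1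

theorem mem_Wr_iff (D : Subalgebra A₀ A) (z : (Al t) ⊗[A₀] B₀) :
    z ∈ Wr φ t D ↔ z ∈ W φ t (Subalgebra.toSubmodule D) := Iff.rfl

theorem exists_fg_mem_Wr (z : (Al t) ⊗[A₀] B₀) :
    ∃ D : Subalgebra A₀ A, D.FG ∧ z ∈ Wr φ t D := by
  induction z with
  | zero => exact ⟨⊥, Subalgebra.fg_bot, zero_mem _⟩
  | add x y hx hy =>
    obtain ⟨D, hD, hx⟩ := hx
    obtain ⟨D', hD', hy⟩ := hy
    exact ⟨D ⊔ D', hD.sup hD', add_mem (W_mono φ t (Subalgebra.toSubmodule.monotone le_sup_left) hx)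
      (W_mono φ t (Subalgebra.toSubmodule.monotone le_sup_right) hy)⟩
  | tmul x b =>
    obtain ⟨D, hD, h⟩ := exists_fg_mem_Gs φ ((toAl t).symm x)
    exact ⟨D, hD, tmul_mem_W φ t (x := (toAl t).symm x) ((mem_Gs_iff φ D _).1 h) b⟩

/-- The subgroup `G F` of `Al t`, as an `A₀`-submodule. -/
noncomputable def Ft (F : Submodule A₀ A) (hF : ∀ a : A₀, ∀ x ∈ G φ F, t a * x ∈ G φ F) :
    Submodule A₀ (Al t) where
  carrier := {x | (toAl t).symm x ∈ G φ F}
  add_mem' := fun {a b} ha hb => by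
    change (toAl t).symm (a + b) ∈ G φ F
    rw [map_add]; exact add_mem ha hb
  zero_mem' := by
    change (toAl t).symm 0 ∈ G φ F
    rw [map_zero]; exact zero_mem _
  smul_mem' := fun a x hx => by
    change (toAl t).symm (a • x) ∈ G φ F
    rw [Algebra.smul_def, map_mul]
    exact hF a _ hx

/-- The map whose kernel is `F'`. -/
noncomputable def tau (F : Submodule A₀ A) (hF : ∀ a : A₀, ∀ x ∈ G φ F, t a * x ∈ G φ F) :
    A →ₗ[A₀] (Al t ⧸ Ft φ t F hF) :=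
  (Ft φ t F hF).mkQ ∘ₗ (IsScalarTower.toAlgHom A₀ A (Al t)).toLinearMap

theorem mem_ker_tau (F : Submodule A₀ A) (hF : ∀ a : A₀, ∀ x ∈ G φ F, t a * x ∈ G φ F) (a : A) :
    a ∈ LinearMap.ker (tau φ t F hF) ↔ t a ∈ G φ F := by
  rw [LinearMap.mem_ker, tau, LinearMap.comp_apply, Submodule.mkQ_apply, Submodule.Quotient.mk_eq_zero]
  rfl

theorem mkQ_W (F : Submodule A₀ A) (hF : ∀ a : A₀, ∀ x ∈ G φ F, t a * x ∈ G φ F)
    {z : (Al t) ⊗[A₀] B₀} (hz : z ∈ W φ t F) : (Ft φ t F hF).mkQ.rTensor B₀ z = 0 := by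
  induction hz using AddSubgroup.closure_induction with
  | mem z hz =>
    obtain ⟨x, hx, b, rfl⟩ := hz
    rw [LinearMap.rTensor_tmul]
    have : (Ft φ t F hF).mkQ (toAl t x) = 0 := by
      rw [Submodule.mkQ_apply, Submodule.Quotient.mk_eq_zero]
      exact hx
    rw [this, TensorProduct.zero_tmul]
  | zero => rw [map_zero]
  | add x y _ _ hx hy => rw [map_add, hx, hy, add_zero]
  | neg x _ hx => rw [map_neg, hx, neg_zero]

theorem tau_rTensor (F : Submodule A₀ A) (hF : ∀ a : A₀, ∀ x ∈ G φ F, t a * x ∈ G φ F) (x : B) :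
    (tau φ t F hF).rTensor B₀ (φ x) = (Ft φ t F hF).mkQ.rTensor B₀ (q₂ φ t x) := by
  rw [tau, LinearMap.rTensor_comp, LinearMap.comp_apply]
  rfl

/-- The main step: the submodule `F'` is stable. -/
theorem t_mem_G [Module.Flat A₀ B₀] (δ : B →+* (Al t) ⊗[A₀] B₀) (hδt : ∀ a, δ (t a) = q₂ φ t (t a))
    (F : Submodule A₀ A) (hF : ∀ a : A₀, ∀ x ∈ G φ F, t a * x ∈ G φ F)
    (hδ : ∀ x ∈ G φ F, δ x ∈ W φ t F) (a : A) (ha : t a ∈ G φ F) :
    t a ∈ G φ (LinearMap.ker (tau φ t F hF)) := by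
  apply mem_G_of_flat
  rw [tau_rTensor, ← hδt]
  exact mkQ_W φ t F hF (hδ _ ha)

end Setup

end ResProp.EF.Grpd330
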