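import Groth.Agent.ResProp.EF.X56.NF

/-!
# Subfunctors of a groupoid ring given by subrings
-/

set_option autoImplicit false
set_option linter.dupNamespace false

open CategoryTheory Opposite

namespace ResProp.EF.Grpd330

open K784.BC K784.PM K741.RP EF56

universe u

/-- subrings stable under all arrows -/
structure SubF (A : NFᵒᵖ ⥤ CommRingCat.{u}) where
  S : ∀ a : NF, Subring (A.obj (op a))
  st : ∀ {a b : NF} (φ : a ⟶ b) (x : A.obj (op b)), x ∈ S b → rg A φ x ∈ S a

variable {A : NFᵒᵖ ⥤ CommRingCat.{u}}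

/-- the restricted ring homomorphism -/
def SubF.r (X : SubF A) {a b : NF} (φ : a ⟶ b) : X.S b →+* X.S a :=
  ((rg A φ).comp (X.S b).subtype).codRestrict (X.S a) (fun x => X.st φ x x.2)

/-- the functor of the subrings -/
def SubF.F (X : SubF A) : NFᵒᵖ ⥤ CommRingCat.{u} where
  obj a := CommRingCat.of (X.S a.unop)
  map {a b} f := CommRingCat.ofHom (X.r f.unop)
  map_id a := by
    ext x
    change rg A (𝟙 a.unop) x = x
    rw [rg_id]
    rfl
  map_comp {a b c} f g := by
    ext x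
    change rg A (g.unop ≫ f.unop) x = rg A g.unop (rg A f.unop x)
    rw [rg_comp_apply]

/-- the inclusion -/
def SubF.j (X : SubF A) : X.F ⟶ A where
  app a := CommRingCat.ofHom (X.S a.unop).subtype
  naturality _ _ _ := rfl

theorem SubF.rg_F (X : SubF A) {a b : NF} (φ : a ⟶ b) : rg X.F φ = X.r φ := rfl

theorem SubF.j_app (X : SubF A) (a : NF) : (X.j.app (op a)).hom = (X.S a).subtype := rfl

/-- the edge `(i, j)` -/
def edge {a : NF} (i j : Fin (a.n + 1)) : a ⟶ (⟨1⟩ : NF) := (![i, j] : Fin 2 → Fin (a.n + 1))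

/-- the triangle `(i, j, k)` -/
def tri {a : NF} (i j k : Fin (a.n + 1)) : a ⟶ (⟨2⟩ : NF) := (![i, j, k] : Fin 3 → Fin (a.n + 1))

theorem edge_comp {a b : NF} (φ : a ⟶ b) (i j : Fin (b.n + 1)) :
    φ ≫ edge i j = edge ((show Fin (b.n + 1) → Fin (a.n + 1) from φ) i)
      ((show Fin (b.n + 1) → Fin (a.n + 1) from φ) j) := by
  funext k
  refine Fin.cases ?_ (fun k => ?_) k
  · rfl
  · have : k = 0 := Subsingleton.elim (α := Fin 1) _ _
    subst this
    rfl

theorem edge_pr {a : NF} (i j : Fin (a.n + 1)) : edge i j ≫ pr ⟨0⟩ = pt a i := by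
  funext k
  have : k = 0 := Subsingleton.elim (α := Fin 1) _ _
  subst this
  rfl

theorem edge_lst {a : NF} (i j : Fin (a.n + 1)) : edge i j ≫ lst ⟨0⟩ = pt a j := by
  funext k
  have : k = 0 := Subsingleton.elim (α := Fin 1) _ _
  subst this
  rfl

theorem wmap_pt (a : NF) (i : Fin (a.n + 1)) :
    wmap (pt a i) = edge (a := ⟨a.n + 1⟩) i.castSucc (Fin.last (a.n + 1)) := by
  refine nf_ext ?_ ?_
  · rw [wmap_pr, edge_pr]
    rfl
  · rw [wmap_lst, edge_lst]
    rfl

theorem tri_edge {a : NF} (i j k : Fin (a.n + 1)) (x y : Fin 3) :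
    tri i j k ≫ edge (a := ⟨2⟩) x y = edge ((![i, j, k] : Fin 3 → Fin (a.n + 1)) x) ((![i, j, k] : Fin 3 → Fin (a.n + 1)) y) :=
  edge_comp _ _ _

theorem edge_id : edge (a := ⟨1⟩) 0 1 = 𝟙 (⟨1⟩ : NF) := by
  funext k
  refine Fin.cases ?_ (fun k => ?_) k
  · rfl
  · have : k = 0 := Subsingleton.elim (α := Fin 1) _ _
    subst this
    rfl

theorem pr_one : pr ⟨1⟩ = edge (a := ⟨2⟩) 0 1 := by
  refine nf_ext ?_ ?_
  · rw [edge_pr]; funext k; have : k = 0 := Subsingleton.elim (α := Fin 1) _ _; subst this; rfl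
  · rw [edge_lst]; funext k; have : k = 0 := Subsingleton.elim (α := Fin 1) _ _; subst this; rfl

theorem wmap_lst_zero : wmap (lst ⟨0⟩) = edge (a := ⟨2⟩) 1 2 := by
  refine nf_ext ?_ ?_
  · rw [edge_pr]; funext k; have : k = 0 := Subsingleton.elim (α := Fin 1) _ _; subst this; rfl
  · rw [edge_lst]; funext k; have : k = 0 := Subsingleton.elim (α := Fin 1) _ _; subst this; rfl

end ResProp.EF.Grpd330
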