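import Groth.Agent.ResProp.EF.Grpd330.Main
import Groth.Agent.StMod.K784.BC3
import Mathlib.RingTheory.RingHom.FiniteType
import Mathlib.RingTheory.RingHom.Flat

/-!
# Absolute approximation of affine groupoids: the statement on subrings with pushout squares
-/

set_option autoImplicit false
universe u v w

open TensorProduct K784.BC CategoryTheory

namespace ResProp.EF.Grpd330

section Lift

variable {k : Type*} [CommRing k] {R A : Type*} [CommRing R] [CommRing A] [Algebra k R] [Algebra k A]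

theorem exists_lift2 {T : Type*} [CommRing T] (x : R →+* T) (g : A →+* T)
    (h : x.comp (algebraMap k R) = g.comp (algebraMap k A)) :
    ∃ χ : R ⊗[k] A →+* T, ∀ r a, χ (r ⊗ₜ a) = x r * g a := by
  let : Algebra k T := (x.comp (algebraMap k R)).toAlgebra
  let φ' : R →ₐ[k] T := { x with commutes' := fun _ => rfl }
  let ψ' : A →ₐ[k] T := { g with commutes' := fun a => (congrArg (fun χ : k →+* T => χ a) h).symm }
  refine ⟨(Algebra.TensorProduct.productMap φ' ψ' : R ⊗[k] A →+* T), fun r a => ?_⟩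
  change Algebra.TensorProduct.productMap φ' ψ' (r ⊗ₜ[k] a) = x r * g a
  rw [Algebra.TensorProduct.productMap_apply_tmul]
  rfl

end Lift

section PO

variable {R R' A B : Type u} [CommRing R] [CommRing R'] [CommRing A] [CommRing B] {ρ : R →+* R'} {α : R →+* A}
  {β : R' →+* B} {φ : A →+* B}

theorem po_desc (h : IsPO ρ α β φ) {T : Type u} [CommRing T] (f : R' →+* T) (g : A →+* T)
    (hfg : f.comp ρ = g.comp α) : ∃ l : B →+* T, l.comp β = f ∧ l.comp φ = g := by
  have w : CommRingCat.ofHom ρ ≫ CommRingCat.ofHom f = CommRingCat.ofHom α ≫ CommRingCat.ofHom g := by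
    rw [← CommRingCat.ofHom_comp, ← CommRingCat.ofHom_comp, hfg]
  refine ⟨(h.desc _ _ w).hom, ?_, ?_⟩
  · exact congrArg CommRingCat.Hom.hom (h.inl_desc _ _ w)
  · exact congrArg CommRingCat.Hom.hom (h.inr_desc _ _ w)

theorem po_ext (h : IsPO ρ α β φ) {T : Type u} [CommRing T] {l l' : B →+* T}
    (h1 : l.comp β = l'.comp β) (h2 : l.comp φ = l'.comp φ) : l = l' := by
  have := h.hom_ext (W := CommRingCat.of T) (k := CommRingCat.ofHom l) (l := CommRingCat.ofHom l')
    (by rw [← CommRingCat.ofHom_comp, ← CommRingCat.ofHom_comp, h1])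
    (by rw [← CommRingCat.ofHom_comp, ← CommRingCat.ofHom_comp, h2])
  exact congrArg CommRingCat.Hom.hom this

end PO

section Core

variable {A Γ Γ₂ : Type u} [CommRing A] [CommRing Γ] [CommRing Γ₂]

theorem core_aux [Algebra A Γ] (t : A →+* Γ) (e : Γ →+* A)
    (ι : Γ →+* Γ) (p q m : Γ →+* Γ₂) (hes : ∀ a, e (algebraMap A Γ a) = a) (het : ∀ a, e (t a) = a)
    (hι : ∀ a, ι (algebraMap A Γ a) = t a)
    (hpo : IsPO t (algebraMap A Γ) p q) (hms : ∀ a, m (algebraMap A Γ a) = p (algebraMap A Γ a))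
    (hmt : ∀ a, m (t a) = q (t a))
    (A₀ : Subalgebra ℤ A) (Γ₀ : Type u) [CommRing Γ₀] [Algebra A₀ Γ₀] (hA₀ : A₀.FG)
    [Algebra.FiniteType A₀ Γ₀] [Module.Flat A₀ Γ₀] (φ : Γ ≃ₐ[A] A ⊗[A₀] Γ₀) :
    ∃ D : Subalgebra A₀ A, D.FG ∧ (∀ a ∈ D, t a ∈ Gs φ D) ∧ (∀ g ∈ Gs φ D, e g ∈ D) ∧
      (∀ g ∈ Gs φ D, ι g ∈ Gs φ D) ∧
      (∀ g ∈ Gs φ D, m g ∈ Subring.closure (p '' (Gs φ D : Set Γ) ∪ q '' (Gs φ D : Set Γ))) := by
  have hpq : ∀ a, p (t a) = q (algebraMap A Γ a) := fun a => congr($(hpo.comm) a)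
  obtain ⟨h, hp, hq⟩ := po_desc hpo (q₁ (A₀ := A₀) (B₀ := Γ₀) t) (q₂ φ t) (by
    ext a; exact (q₂_s φ t a).symm)
  have hp' : ∀ x, h (p x) = q₁ t x := fun x => congr($hp x)
  have hq' : ∀ x, h (q x) = q₂ φ t x := fun x => congr($hq x)
  obtain ⟨D, hD, ht, he, hi, hδ⟩ := exists_stable φ t e ι (h.comp m) hes het
    (fun a => by rw [RingHom.comp_apply, hms, hp']) (fun a => by rw [RingHom.comp_apply, hmt, hq']) hA₀
  refine ⟨D, hD, ht, fun g hg => ?_, fun g hg => ?_, fun g hg => ?_⟩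
  · rw [mem_Gs_iff] at hg
    refine G_induction φ (p := fun x => e x ∈ D) (fun x y hx hy => ?_) (fun a ha b => ?_) hg
    · rw [map_add]; exact add_mem hx hy
    · rw [map_mul, hes]; exact mul_mem ha (he b)
  · rw [mem_Gs_iff] at hg
    refine G_induction φ (p := fun x => ι x ∈ Gs φ D) (fun x y hx hy => ?_) (fun a ha b => ?_) hg
    · rw [map_add]; exact add_mem hx hy
    · rw [map_mul, hι]; exact mul_mem (ht a ha) (hi b)
  · obtain ⟨κ, hκ⟩ := exists_lift2 (k := A₀) (R := Al t) (A := Γ₀) (T := Γ₂)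
      (p.comp ((toAl t).symm : Al t →+* Γ)) (q.comp (bt φ : Γ₀ →+* Γ)) (by
        ext a
        change p (t (a : A)) = q (bt φ (algebraMap A₀ Γ₀ a))
        rw [AlgHom.commutes, hpq]
        rfl)
    have hκh : κ.comp h = RingHom.id Γ₂ := by
      refine po_ext hpo ?_ ?_
      · ext x
        rw [RingHom.comp_apply, RingHom.comp_apply, hp', q₁_apply, hκ, map_one, mul_one]
        rfl
      · ext x
        refine G_induction φ (p := fun x => (κ.comp h).comp q x = (RingHom.id Γ₂).comp q x)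
          (fun x y hx hy => ?_) (fun a _ b => ?_) (mem_G_top φ x)
        · rw [map_add, map_add, hx, hy]
        · rw [RingHom.comp_apply, RingHom.comp_apply, hq', q₂_mul_bt, hκ]
          change p (t a) * q (bt φ b) = q (algebraMap A Γ a * bt φ b)
          rw [hpq, map_mul]
    have hW : ∀ z ∈ W φ t (Subalgebra.toSubmodule D),
        κ z ∈ Subring.closure (p '' (Gs φ D : Set Γ) ∪ q '' (Gs φ D : Set Γ)) := by
      intro z hz
      induction hz using AddSubgroup.closure_induction with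
      | mem z hz =>
        obtain ⟨x, hx, b, rfl⟩ := hz
        rw [hκ]
        refine mul_mem (Subring.subset_closure (Or.inl ⟨x, (mem_Gs_iff φ D x).2 hx, rfl⟩))
          (Subring.subset_closure (Or.inr ⟨bt φ b, bt_mem_Gs φ D b, rfl⟩))
      | zero => rw [map_zero]; exact zero_mem _
      | add x y _ _ hx hy => rw [map_add]; exact add_mem hx hy
      | neg x _ hx =>
        have := neg_mem hx
        rwa [← map_neg] at this
    rw [mem_Gs_iff] at hg
    refine G_induction φ (p := fun x => m x ∈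
      Subring.closure (p '' (Gs φ D : Set Γ) ∪ q '' (Gs φ D : Set Γ))) (fun x y hx hy => ?_)
      (fun a ha b => ?_) hg
    · rw [map_add]; exact add_mem hx hy
    · rw [map_mul, hms]
      refine mul_mem (Subring.subset_closure (Or.inl ⟨_, algebraMap_mem_Gs φ ha, rfl⟩)) ?_
      have h1 : m (bt φ b) = κ (h (m (bt φ b))) := congr($(hκh.symm) (m (bt φ b)))
      rw [h1]
      exact hW _ (hδ b)

end Core

end ResProp.EF.Grpd330
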